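import Cfsg.Agent.S0964
import Cfsg.Agent.Blocks.Basic
import Cfsg.Agent.Blocks.Covering
import Cfsg.Agent.Characters.Core
set_option linter.all false

/-!
# The principal block covers only the principal block

`mem_principalBlock_of_over`: if `χ` in the principal block of `G` lies over the irreducible
character `θ` of the normal subgroup `N`, then `θ` lies in the principal block of `N`.
-/

set_option autoImplicit false

namespace Cfsg.Agent.H611.CoverPrincipal

open Cfsg
open scoped ComplexConjugate
open Cfsg.Agent.Blocks

variable {G : Type*} [Group G]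

/-- The principal block of a normal subgroup is invariant under conjugation. -/
theorem conjIrr_mem_principalBlock {M : Ideal AlgInt} (N : Subgroup G) [N.Normal] (g : G)
    {θ : IrrCharacter N} (h : θ ∈ principalBlock M N) :
    Covering.conjIrr N g θ ∈ principalBlock M N := by
  let oneN : IrrCharacter N := ⟨fun _ => 1, Basic.isIrrCharacter_one⟩
  have h1 : SameBlock M (oneN : N → ℂ) (θ : N → ℂ) := h
  exact Covering.sameBlock_conjIrr N g h1

/-- If `χ` in the principal block of `G` lies over the irreducible character `θ` of the normal
subgroup `N`, then `θ` lies in the principal block of `N`. -/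
theorem mem_principalBlock_of_over [Fintype G] (p : ℕ) [Fact p.Prime] {M : Ideal AlgInt}
    (hM : IsPModular p M) (N : Subgroup G) [hN : N.Normal] [Fintype N] (χ : IrrCharacter G)
    (θ : IrrCharacter N) (hover : classInner (fun n : N => (χ : G → ℂ) n) (θ : N → ℂ) ≠ 0)
    (hχ : χ ∈ principalBlock M G) : θ ∈ principalBlock M N := by
  have hprime : M.IsPrime := Local.isPrime_of_isPModular hM
  let one : IrrCharacter G := ⟨fun _ => 1, Basic.isIrrCharacter_one⟩
  let oneN : IrrCharacter N := ⟨fun _ => 1, Basic.isIrrCharacter_one⟩
  have h1 : classInner (fun n : N => (one : G → ℂ) n) (oneN : N → ℂ) ≠ 0 := by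
    have : classInner (fun n : N => (one : G → ℂ) n) (oneN : N → ℂ) = 1 := by
      rw [Basic.classInner_def]
      simp only [one, oneN, map_one, mul_one, Finset.sum_const, nsmul_eq_mul,
        Finset.card_univ, Nat.card_eq_fintype_card]
      rw [inv_mul_cancel₀]
      exact_mod_cast Fintype.card_ne_zero
    rw [this]
    exact one_ne_zero
  obtain ⟨g, θ', hθ', h2⟩ := Cfsg.Agent.S0964.result p M hM N (principalBlock M G) ⟨one, rfl⟩
    (principalBlock M N) ⟨oneN, rfl⟩ one (Basic.mem_blockOf_self one) oneN
    (Basic.mem_blockOf_self oneN) h1 χ hχ θ hover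
  have h3 : θ = Covering.conjIrr N g θ' := by
    apply Subtype.ext
    funext n
    rw [h2 n, Covering.conjIrr_apply]
    exact congrArg (θ' : N → ℂ) (Subtype.ext (MulAut.conjNormal_apply g n).symm)
  rw [h3]
  exact conjIrr_mem_principalBlock N g hθ'

end Cfsg.Agent.H611.CoverPrincipal
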