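import Mathlib
import Cfsg.Agent.Blocks.Basic
import Cfsg.Agent.ClassicalGeometry.SLTwoFour
import Cfsg.Agent.H611.PslTwo
import Cfsg.Agent.Walter.LastCase_mg_m3
import Cfsg.Agent.SmallSimple.SylowEight
import Cfsg.Agent.ClassicalGeometry.PSL2Basic
import Cfsg.Agent.FastGrp
import Cfsg.Agent.Prune
set_option linter.all false
prune_inst 0x7f00000000000000000000000000000000000000000000000000000000000000000000000000000000000000000000000000000000000000000000000000000000000000000000000000000000000000003fffffffffffffffffffffffffffbeffbdffffffff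
open scoped Cfsg.Agent.FastGrp

-- part: H611/Involutions
section
/-!
# Products of two involutions with centralizer of odd order

* `odd_centralizer`: if no involution commutes with both involutions `t`, `u`, then the centralizer
  of `t * u` has odd order.
* `exists_pair`: a counting criterion for the existence of such a pair.
* `exists_real`: the criterion gives a nontrivial real element with centralizer of odd order.
-/

set_option autoImplicit false

namespace Cfsg.Agent.H611.Involutions

variable {G : Type*} [Group G]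

/-- If `t` is an element of order dividing `2` normalizing the centralizer of `y` of even order, then
some involution commutes with `t` and `y`. -/
theorem exists_commuting [Finite G] {t y : G} (ht : t * t = 1) (hty : t * y * t⁻¹ = y⁻¹)
    (heven : Even (Nat.card (Subgroup.centralizer ({y} : Set G)))) :
    ∃ v : G, orderOf v = 2 ∧ Commute t v ∧ Commute y v := by
  classical
  have hp2 : Fact (Nat.Prime 2) := ⟨Nat.prime_two⟩
  have := Fintype.ofFinite G
  set C := Subgroup.centralizer ({y} : Set G) with hC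
  have htinv : t⁻¹ = t := inv_eq_of_mul_eq_one_left ht
  have hnorm : ∀ v : G, v ∈ C → t * v * t⁻¹ ∈ C := by
    intro v hv
    rw [hC, Subgroup.mem_centralizer_singleton_iff] at hv ⊢
    have h1 : t * y⁻¹ * t⁻¹ = y := by
      rw [← hty, htinv]
      calc t * (t * y * t) * t = (t * t) * y * (t * t) := by group
        _ = y := by rw [ht]; group
    have h2 : v * y⁻¹ = y⁻¹ * v := by
      have h3 : Commute v y := hv
      exact h3.inv_right
    calc t * v * t⁻¹ * y = t * v * t⁻¹ * (t * y⁻¹ * t⁻¹) := by rw [h1]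
      _ = t * (v * y⁻¹) * t⁻¹ := by group
      _ = (t * y⁻¹ * t⁻¹) * (t * v * t⁻¹) := by rw [h2]; group
      _ = y * (t * v * t⁻¹) := by rw [h1]
  -- the self-inverse elements
  let f : Function.End C := fun v => v⁻¹
  have hf : f ^ 2 ^ 1 = 1 := by
    funext v
    have h3 : f ^ 2 ^ 1 = f * f := by rw [pow_one, pow_two]
    rw [h3]
    show (v⁻¹)⁻¹ = v
    simp
  have h1 := Equiv.Perm.card_fixedPoints_modEq (p := 2) (n := 1) hf
  let f₂ : Function.End f.fixedPoints := fun v => ⟨⟨t * v.1.1 * t⁻¹, hnorm _ v.1.2⟩, by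
    have h3 : (v.1)⁻¹ = v.1 := v.2
    have h4 : (v.1.1)⁻¹ = v.1.1 := congrArg Subtype.val h3
    apply Subtype.ext
    show (t * v.1.1 * t⁻¹)⁻¹ = t * v.1.1 * t⁻¹
    rw [mul_inv_rev, mul_inv_rev, h4]
    group⟩
  have hf₂ : f₂ ^ 2 ^ 1 = 1 := by
    funext v
    apply Subtype.ext
    apply Subtype.ext
    have h3 : f₂ ^ 2 ^ 1 = f₂ * f₂ := by rw [pow_one, pow_two]
    rw [h3]
    show t * (t * v.1.1 * t⁻¹) * t⁻¹ = v.1.1
    rw [htinv]
    calc t * (t * v.1.1 * t) * t = (t * t) * v.1.1 * (t * t) := by group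
      _ = v.1.1 := by rw [ht]; group
  have h2 := Equiv.Perm.card_fixedPoints_modEq (p := 2) (n := 1) hf₂
  have h3 : Fintype.card f₂.fixedPoints ≡ 0 [MOD 2] := by
    refine (h2.symm.trans h1.symm).trans ?_
    rw [Nat.modEq_zero_iff_dvd, ← Nat.card_eq_fintype_card]
    exact even_iff_two_dvd.1 heven
  have h4 : (1 : G) ∈ C := C.one_mem
  let one₂ : f₂.fixedPoints := ⟨⟨1, by
    show (1 : C)⁻¹ = 1
    simp⟩, by
    apply Subtype.ext
    apply Subtype.ext
    show t * 1 * t⁻¹ = 1
    group⟩
  have h5 : 1 < Fintype.card f₂.fixedPoints := by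
    have h6 : 0 < Fintype.card f₂.fixedPoints := Fintype.card_pos_iff.2 ⟨one₂⟩
    rw [Nat.modEq_zero_iff_dvd] at h3
    omega
  obtain ⟨v, hv⟩ := Fintype.exists_ne_of_one_lt_card h5 one₂
  have hv1 : v.1.1.1 ≠ 1 := by
    intro h6
    apply hv
    apply Subtype.ext
    apply Subtype.ext
    apply Subtype.ext
    exact h6
  have hv2 : (v.1.1.1)⁻¹ = v.1.1.1 := congrArg Subtype.val (v.1.2 : (v.1.1)⁻¹ = v.1.1)
  have hv3 : t * v.1.1.1 * t⁻¹ = v.1.1.1 :=
    congrArg Subtype.val (congrArg Subtype.val (v.2 : f₂ v.1 = v.1))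
  refine ⟨v.1.1.1, ?_, ?_, ?_⟩
  · rw [orderOf_eq_prime_iff]
    refine ⟨?_, hv1⟩
    rw [pow_two]
    nth_rewrite 1 [← hv2]
    simp
  · show t * v.1.1.1 = v.1.1.1 * t
    calc t * v.1.1.1 = t * v.1.1.1 * t⁻¹ * t := by group
      _ = v.1.1.1 * t := by rw [hv3]
  · have h6 : v.1.1.1 ∈ Subgroup.centralizer ({y} : Set G) := v.1.1.2
    exact (Subgroup.mem_centralizer_singleton_iff.1 h6).symm

theorem odd_centralizer [Finite G] {t u : G} (ht : t * t = 1) (hu : u * u = 1)
    (h : ∀ v : G, orderOf v = 2 → Commute t v → Commute u v → False) :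
    Odd (Nat.card (Subgroup.centralizer ({t * u} : Set G))) := by
  by_contra hcon
  rw [Nat.not_odd_iff_even] at hcon
  have htinv : t⁻¹ = t := inv_eq_of_mul_eq_one_left ht
  have huinv : u⁻¹ = u := inv_eq_of_mul_eq_one_left hu
  obtain ⟨v, hv1, hv2, hv3⟩ := exists_commuting (t := t) (y := t * u) ht (by
    rw [mul_inv_rev, htinv, huinv]
    calc t * (t * u) * t = (t * t) * u * t := by group
      _ = u * t := by rw [ht]; group) hcon
  refine h v hv1 hv2 ?_
  have h1 : t * (t * u) = u := by rw [← mul_assoc, ht, one_mul]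
  rw [← h1]
  exact hv2.mul_left hv3

theorem isConj_inv {t u : G} (ht : t * t = 1) (hu : u * u = 1) : IsConj (t * u) (t * u)⁻¹ := by
  have htinv : t⁻¹ = t := inv_eq_of_mul_eq_one_left ht
  have huinv : u⁻¹ = u := inv_eq_of_mul_eq_one_left hu
  refine isConj_iff.2 ⟨t, ?_⟩
  rw [mul_inv_rev, htinv, huinv]
  calc t * (t * u) * t = (t * t) * u * t := by group
    _ = u * t := by rw [ht]; group

/-- The counting criterion. -/
theorem exists_pair [Finite G] (t₀ : G) (ht₀ : orderOf t₀ = 2)
    (hconj : ∀ u : G, orderOf u = 2 → IsConj t₀ u) (N : ℕ)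
    (hN : ∀ v : G, orderOf v = 2 → Nat.card {u : G // orderOf u = 2 ∧ Commute u v} ≤ N)
    (hlt : N * N < (Subgroup.centralizer ({t₀} : Set G)).index) :
    ∃ t u : G, orderOf t = 2 ∧ orderOf u = 2 ∧
      ∀ v : G, orderOf v = 2 → Commute t v → Commute u v → False := by
  classical
  have := Fintype.ofFinite G
  by_contra hcon
  push Not at hcon
  let I : Finset G := Finset.univ.filter fun u => orderOf u = 2
  have hI : I.card = (Subgroup.centralizer ({t₀} : Set G)).index := by
    rw [Cfsg.Agent.Blocks.Basic.index_centralizer_eq_ncard, ← Set.ncard_coe_finset]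
    congr 1
    ext u
    simp only [I, Finset.coe_filter, Finset.mem_univ, true_and, Set.mem_ofPred_eq]
    refine ⟨hconj u, fun h => ?_⟩
    obtain ⟨c, hc⟩ := isConj_iff.1 h
    rw [← hc, ← ht₀]
    exact (MulAut.conj c).orderOf_eq t₀
  have hsub : I ×ˢ I ⊆ I.biUnion fun v =>
      (Finset.univ.filter fun u : G => orderOf u = 2 ∧ Commute u v) ×ˢ
        (Finset.univ.filter fun u : G => orderOf u = 2 ∧ Commute u v) := by
    rintro ⟨t, u⟩ htu
    rw [Finset.mem_product, Finset.mem_filter, Finset.mem_filter] at htu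
    obtain ⟨v, hv1, hv2, hv3, -⟩ := hcon t u htu.1.2 htu.2.2
    rw [Finset.mem_biUnion]
    refine ⟨v, Finset.mem_filter.2 ⟨Finset.mem_univ _, hv1⟩, ?_⟩
    rw [Finset.mem_product, Finset.mem_filter, Finset.mem_filter]
    exact ⟨⟨Finset.mem_univ _, htu.1.2, hv2⟩, ⟨Finset.mem_univ _, htu.2.2, hv3⟩⟩
  have h1 := (Finset.card_le_card hsub).trans Finset.card_biUnion_le
  rw [Finset.card_product] at h1
  have h2 : ∑ v ∈ I, ((Finset.univ.filter fun u : G => orderOf u = 2 ∧ Commute u v) ×ˢ
        (Finset.univ.filter fun u : G => orderOf u = 2 ∧ Commute u v)).card ≤ I.card * (N * N) := by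
    rw [← smul_eq_mul, ← Finset.sum_const]
    refine Finset.sum_le_sum fun v hv => ?_
    rw [Finset.card_product]
    have h3 := hN v (Finset.mem_filter.1 hv).2
    rw [Nat.card_eq_fintype_card, Fintype.card_subtype] at h3
    exact Nat.mul_le_mul h3 h3
  have h3 : I.card * I.card ≤ I.card * (N * N) := h1.trans h2
  have h4 : 0 < I.card := by
    rw [hI]
    exact Nat.pos_of_ne_zero Subgroup.index_ne_zero_of_finite
  have h5 := Nat.le_of_mul_le_mul_left h3 h4
  rw [hI] at h5
  omega

/-- A nontrivial real element with centralizer of odd order. -/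
theorem exists_real [Finite G] (t₀ : G) (ht₀ : orderOf t₀ = 2)
    (hconj : ∀ u : G, orderOf u = 2 → IsConj t₀ u) (N : ℕ)
    (hN : ∀ v : G, orderOf v = 2 → Nat.card {u : G // orderOf u = 2 ∧ Commute u v} ≤ N)
    (hlt : N * N < (Subgroup.centralizer ({t₀} : Set G)).index) :
    ∃ x : G, x ≠ 1 ∧ IsConj x x⁻¹ ∧ Odd (Nat.card (Subgroup.centralizer ({x} : Set G))) := by
  obtain ⟨t, u, ht, hu, h⟩ := exists_pair t₀ ht₀ hconj N hN hlt
  have ht2 : t * t = 1 := by
    have := pow_orderOf_eq_one t
    rwa [ht, pow_two] at this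
  have hu2 : u * u = 1 := by
    have := pow_orderOf_eq_one u
    rwa [hu, pow_two] at this
  refine ⟨t * u, ?_, isConj_inv ht2 hu2, odd_centralizer ht2 hu2 h⟩
  intro h1
  have h2 : t = u := by
    have h3 : t * t = t * u := by rw [ht2, h1]
    exact mul_left_cancel h3
  exact h t ht (Commute.refl t) (by rw [h2])

end Cfsg.Agent.H611.Involutions
end

-- part: H611/InvCount
section
/-!
# An upper bound for the number of involutions of `PSL(2, q)`, `q` odd

`2 * #{w : PSL(2, q) | w * w = 1} ≤ q (q - 1) + q * #{a : F | a ^ 2 = -1} + 2`.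
-/

set_option autoImplicit false

namespace Cfsg.Agent.H611.InvCount

open Matrix Cfsg.Agent.H611.PslTwo

variable {F : Type*} [Field F]

theorem entries_of_sq {A : Matrix.SpecialLinearGroup (Fin 2) F} (hA : A * A = -1) :
    A.1 1 1 = - A.1 0 0 ∧ A.1 0 0 ^ 2 + A.1 0 1 * A.1 1 0 = -1 := by
  have hm : ∀ i j, (A * A).1 i j = (-1 : Matrix.SpecialLinearGroup (Fin 2) F).1 i j := fun i j => by
    rw [hA]
  have hneg : (-1 : Matrix.SpecialLinearGroup (Fin 2) F).1 = -1 := rfl
  have e00 := hm 0 0
  have e01 := hm 0 1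
  have e10 := hm 1 0
  have e11 := hm 1 1
  rw [PslTwo.mul_apply', hneg] at e00 e01 e10 e11
  simp only [Matrix.neg_apply, Matrix.one_apply_eq] at e00 e11
  have h01 : (-1 : Matrix (Fin 2) (Fin 2) F) 0 1 = 0 := by simp
  have h10 : (-1 : Matrix (Fin 2) (Fin 2) F) 1 0 = 0 := by simp
  rw [h01] at e01
  rw [h10] at e10
  have hd := det_eq A
  have h1 : A.1 1 1 + A.1 0 0 = 0 := by
    by_contra hne
    have a1 : A.1 0 0 = 0 := by
      have : A.1 0 0 * (A.1 1 1 + A.1 0 0) = 0 := by linear_combination hd + e00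
      exact (mul_eq_zero.1 this).resolve_right hne
    have a2 : A.1 0 1 = 0 := by
      have : A.1 0 1 * (A.1 1 1 + A.1 0 0) = 0 := by linear_combination e01
      exact (mul_eq_zero.1 this).resolve_right hne
    rw [a1, a2] at hd
    simp at hd
  exact ⟨by linear_combination h1, by linear_combination e00⟩

variable [Fintype F]

open scoped Classical in
theorem card_sq_neg_one :
    Nat.card {A : Matrix.SpecialLinearGroup (Fin 2) F // A * A = -1} ≤
      Fintype.card F * (Fintype.card F - 1) +
        Fintype.card {a : F // a ^ 2 = -1} * Fintype.card F := by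
  let f : {A : Matrix.SpecialLinearGroup (Fin 2) F // A * A = -1} →
      (F × Fˣ) ⊕ ({a : F // a ^ 2 = -1} × F) := fun A =>
    if h : A.1.1 0 1 = 0 then Sum.inr (⟨A.1.1 0 0, by
      have := (entries_of_sq A.2).2
      rw [h, zero_mul, add_zero] at this
      exact this⟩, A.1.1 1 0)
    else Sum.inl (A.1.1 0 0, Units.mk0 _ h)
  have hf : Function.Injective f := by
    intro A B hAB
    obtain ⟨a1, a2⟩ := entries_of_sq A.2
    obtain ⟨b1, b2⟩ := entries_of_sq B.2
    apply Subtype.ext
    by_cases hA : A.1.1 0 1 = 0 <;> by_cases hB : B.1.1 0 1 = 0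
    · simp only [f, hA, hB, dif_pos, Sum.inr.injEq, Prod.mk.injEq, Subtype.mk.injEq] at hAB
      rw [ext_iff', a1, b1, hA, hB]
      exact ⟨hAB.1, rfl, hAB.2, by rw [hAB.1]⟩
    · simp only [f, hA, hB, _root_.Fin.isValue, ↓ _root_.reduceDIte, _root_.reduceCtorEq] at hAB
    · simp only [f, hA, hB, _root_.Fin.isValue, ↓ _root_.reduceDIte, _root_.reduceCtorEq] at hAB
    · simp only [f, hA, hB, dif_neg, not_false_iff, Sum.inl.injEq, Prod.mk.injEq] at hAB
      have h1 : A.1.1 0 1 = B.1.1 0 1 := congrArg Units.val hAB.2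
      rw [ext_iff', a1, b1]
      refine ⟨hAB.1, h1, ?_, by rw [hAB.1]⟩
      have h2 : A.1.1 0 1 * A.1.1 1 0 = A.1.1 0 1 * B.1.1 1 0 := by
        rw [h1]
        rw [h1, hAB.1] at a2
        linear_combination a2 - b2
      exact mul_left_cancel₀ hA h2
  have h1 := Nat.card_le_card_of_injective f hf
  rw [Nat.card_sum, Nat.card_prod, Nat.card_prod, Nat.card_eq_fintype_card (α := F),
    Nat.card_eq_fintype_card (α := Fˣ), Fintype.card_units,
    Nat.card_eq_fintype_card (α := {a : F // a ^ 2 = -1})] at h1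
  exact h1

/-- The number of elements of order dividing `2`. -/
theorem card_involutions (h2 : (2 : F) ≠ 0) :
    2 * Nat.card {w : Matrix.ProjectiveSpecialLinearGroup (Fin 2) F // w * w = 1} ≤
      Nat.card {A : Matrix.SpecialLinearGroup (Fin 2) F // A * A = -1} + 2 := by
  classical
  let X := {w : Matrix.ProjectiveSpecialLinearGroup (Fin 2) F // w * w = 1 ∧ w ≠ 1}
  have hlift : ∀ w : X, ∃ g : Matrix.SpecialLinearGroup (Fin 2) F, g * g = -1 ∧
      (QuotientGroup.mk g : Matrix.ProjectiveSpecialLinearGroup (Fin 2) F) = w.1 := by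
    rintro ⟨w, hw, hw1⟩
    exact Cfsg.Agent.ClassicalGeometry.SLTwoFour.psl_involution_lift h2 w
      (orderOf_eq_prime_iff.2 ⟨by rw [pow_two]; exact hw, hw1⟩)
  choose l hl1 hl2 using hlift
  have hneg : ∀ g : Matrix.SpecialLinearGroup (Fin 2) F,
      (QuotientGroup.mk (-g) : Matrix.ProjectiveSpecialLinearGroup (Fin 2) F) =
        QuotientGroup.mk g := by
    intro g
    rw [QuotientGroup.eq, Matrix.SpecialLinearGroup.mem_center_iff]
    refine ⟨-1, by simp only [_root_.Fintype.card_fin, _root_.even_two, _root_.Even.neg_pow, _root_.one_pow], ?_⟩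
    have : (-g)⁻¹ * g = -1 := by
      rw [inv_mul_eq_iff_eq_mul]
      simp
    rw [this]
    ext i j
    simp only [Matrix.scalar_apply, Matrix.diagonal_apply, Matrix.SpecialLinearGroup.coe_neg,
      Matrix.SpecialLinearGroup.coe_one, Matrix.neg_apply, Matrix.one_apply]
    split_ifs <;> simp
  have hne : ∀ g : Matrix.SpecialLinearGroup (Fin 2) F, -g ≠ g := by
    intro g h
    have h00 : ∀ i j, -(g.1 i j) = g.1 i j := fun i j => by
      have : (-g).1 i j = g.1 i j := by rw [h]
      exact this
    have hz : ∀ i j, g.1 i j = 0 := fun i j => by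
      have : 2 * g.1 i j = 0 := by linear_combination -h00 i j
      exact (mul_eq_zero.1 this).resolve_left h2
    have := det_eq g
    rw [hz 0 0, hz 0 1] at this
    simp at this
  let f : X × Bool → {A : Matrix.SpecialLinearGroup (Fin 2) F // A * A = -1} := fun p =>
    if p.2 then ⟨l p.1, hl1 p.1⟩ else ⟨-l p.1, by rw [neg_mul_neg]; exact hl1 p.1⟩
  have hmk : ∀ p, (QuotientGroup.mk (f p).1 : Matrix.ProjectiveSpecialLinearGroup (Fin 2) F) =
      p.1.1 := by
    rintro ⟨w, b⟩
    cases b
    · simp only [f]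
      rw [← hl2 w]
      exact hneg _
    · simp only [f]
      exact hl2 w
  have hf : Function.Injective f := by
    intro p p' h
    have h1 : p.1 = p'.1 := by
      apply Subtype.ext
      rw [← hmk p, ← hmk p', h]
    obtain ⟨w, b⟩ := p
    obtain ⟨w', b'⟩ := p'
    simp only at h1
    subst h1
    cases b <;> cases b'
    · rfl
    · exfalso
      simp only [f] at h
      exact hne _ (congrArg Subtype.val h)
    · exfalso
      simp only [f] at h
      exact hne _ (congrArg Subtype.val h).symm
    · rfl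
  have h1 := Nat.card_le_card_of_injective f hf
  rw [Nat.card_prod, Nat.card_eq_fintype_card (α := Bool), Fintype.card_bool] at h1
  have h3 : Nat.card {w : Matrix.ProjectiveSpecialLinearGroup (Fin 2) F // w * w = 1} ≤
      Nat.card X + 1 := by
    have : Nat.card X + 1 = Nat.card (Option X) := by
      rw [Finite.card_option]
    rw [this]
    let g : {w : Matrix.ProjectiveSpecialLinearGroup (Fin 2) F // w * w = 1} → Option X :=
      fun w => if h : w.1 = 1 then none else some ⟨w.1, w.2, h⟩
    apply Nat.card_le_card_of_injective g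
    intro w w' hw
    by_cases h : w.1 = 1 <;> by_cases h' : w'.1 = 1
    · exact Subtype.ext (h.trans h'.symm)
    · simp only [g, h, h', _root_.ne_eq, ↓ _root_.reduceDIte, _root_.reduceCtorEq] at hw
    · simp only [g, h, h', _root_.ne_eq, ↓ _root_.reduceDIte, _root_.reduceCtorEq] at hw
    · simp only [g, h, h', dif_neg, not_false_iff, Option.some.injEq] at hw
      exact Subtype.ext (congrArg (fun z : X => z.1) hw)
  omega

/-- Involutions of `C(v) ≅ Z₂ × PSL(2, q)`. -/
theorem card_commuting {G : Type*} [Group G] [Finite G] (v : G)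
    (e : Subgroup.centralizer ({v} : Set G) ≃*
      Multiplicative (ZMod 2) × Matrix.ProjectiveSpecialLinearGroup (Fin 2) F) :
    Nat.card {u : G // orderOf u = 2 ∧ Commute u v} ≤
      2 * Nat.card {w : Matrix.ProjectiveSpecialLinearGroup (Fin 2) F // w * w = 1} := by
  have hsq : ∀ u : G, orderOf u = 2 → u * u = 1 := fun u hu => by
    have := pow_orderOf_eq_one u
    rwa [hu, pow_two] at this
  let f : {u : G // orderOf u = 2 ∧ Commute u v} → Multiplicative (ZMod 2) ×
      {w : Matrix.ProjectiveSpecialLinearGroup (Fin 2) F // w * w = 1} := fun u =>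
    ((e ⟨u.1, Subgroup.mem_centralizer_singleton_iff.2 u.2.2⟩).1,
      ⟨(e ⟨u.1, Subgroup.mem_centralizer_singleton_iff.2 u.2.2⟩).2, by
        rw [← Prod.snd_mul, ← map_mul]
        have : (⟨u.1, Subgroup.mem_centralizer_singleton_iff.2 u.2.2⟩ :
          Subgroup.centralizer ({v} : Set G)) * ⟨u.1, Subgroup.mem_centralizer_singleton_iff.2 u.2.2⟩
            = 1 := Subtype.ext (hsq u.1 u.2.1)
        rw [this, map_one]
        rfl⟩)
  have hf : Function.Injective f := by
    intro u u' h
    simp only [f, Prod.mk.injEq, Subtype.mk.injEq] at h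
    have h1 := e.injective (Prod.ext h.1 h.2)
    exact Subtype.ext (congrArg (fun z : Subgroup.centralizer ({v} : Set G) => (z : G)) h1)
  have h1 := Nat.card_le_card_of_injective f hf
  rw [Nat.card_prod] at h1
  simpa only [_root_.ge_iff_le, _root_.Nat.card_eq_fintype_card, _root_.Fintype.card_multiplicative, _root_.ZMod.card] using h1

end Cfsg.Agent.H611.InvCount
end

-- part: H611/JRReal
section
/-!
# Groups of Janko–Ree type have real elements with centralizer of odd order
-/

set_option autoImplicit false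

namespace Cfsg.Agent.H611.JRReal

open Cfsg Cfsg.Agent.Walter.Types Cfsg.Agent.Walter.Main

universe u

theorem exists_real (hC : CentThm.{u}) {G : Type u} [Group G] [Finite G] [IsSimpleGroup G]
    (hna : ¬ IsMulCommutative G) (h : IsJR G) :
    ∃ x : G, x ≠ 1 ∧ IsConj x x⁻¹ ∧ Odd (Nat.card (Subgroup.centralizer ({x} : Set G))) := by
  classical
  have h2 : Fact (Nat.Prime 2) := ⟨Nat.prime_two⟩
  obtain ⟨S⟩ : Nonempty (Sylow 2 G) := inferInstance
  obtain ⟨⟨S₀, hS₀, hS₀2⟩, F, i1, i2, hmod, hq, hc⟩ := h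
  have hsyl : ∀ P : Sylow 2 G, Nat.card P = 8 ∧ ∀ x ∈ P, x * x = 1 := by
    intro P
    let e := P.equiv S₀
    refine ⟨by rw [Nat.card_congr e.toEquiv]; exact hS₀, fun x hx => ?_⟩
    have h3 := hS₀2 _ (e ⟨x, hx⟩).2
    have h4 : e ⟨x, hx⟩ * e ⟨x, hx⟩ = 1 := Subtype.ext h3
    rw [← map_mul, ← map_one e] at h4
    exact congrArg Subtype.val (e.injective h4)
  have hab : ∀ P : Sylow 2 G, ∀ a b : P, a * b = b * a := by
    intro P a b
    have h3 := (hsyl P).2 _ (mul_mem a.2 b.2)
    have ha := (hsyl P).2 _ a.2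
    have hb := (hsyl P).2 _ b.2
    apply Subtype.ext
    calc (a : G) * b = ((a : G) * b)⁻¹ := (inv_eq_of_mul_eq_one_right h3).symm
      _ = (b : G)⁻¹ * (a : G)⁻¹ := mul_inv_rev _ _
      _ = b * a := by rw [inv_eq_of_mul_eq_one_right ha, inv_eq_of_mul_eq_one_right hb]
  have h8 : Nat.card (S : Subgroup G) = 8 := (hsyl S).1
  have h8d : 8 ∣ Nat.card G := h8 ▸ (S : Subgroup G).card_subgroup_dvd_card
  have h16 : ¬ 16 ∣ Nat.card G := by
    intro h
    have h3 := (S : Subgroup G).card_mul_index
    rw [h8] at h3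
    have h4 := S.not_dvd_index
    apply h4
    obtain ⟨k, hk⟩ := h
    rw [hk] at h3
    exact ⟨k, by omega⟩
  have hconj := Cfsg.Agent.SmallSimple.SylowEight.isConj_of_card_sylow_eight hna h8d h16
  obtain ⟨t, ht⟩ : ∃ t : G, orderOf t = 2 := by
    apply exists_prime_orderOf_dvd_card'
    omega
  -- characteristic
  have hF2 : (2 : F) ≠ 0 := by
    intro h
    have hchar : CharP F 2 := CharTwo.of_one_ne_zero_of_two_eq_zero one_ne_zero h
    have h1 := FiniteField.even_card_iff_char_two (F := F)
    have h3 : ringChar F = 2 := ringChar.eq F 2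
    have := h1.1 h3
    omega
  set q := Fintype.card F with hqdef
  have hoddq : Odd q := by
    rw [Nat.odd_iff]
    omega
  -- the order of the centralizer
  obtain ⟨e⟩ := hc t ht
  have hcent : Nat.card (Subgroup.centralizer ({t} : Set G)) = q * (q ^ 2 - 1) := by
    rw [Nat.card_congr e.toEquiv, Nat.card_prod]
    have := Cfsg.Agent.ClassicalGeometry.PSL2Basic.card_PSL2_odd (F := F) hoddq
    rw [← this]
    simp [mul_comm]
  have hindex := (Subgroup.centralizer ({t} : Set G)).card_mul_index
  rw [hcent] at hindex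
  set n := (Subgroup.centralizer ({t} : Set G)).index with hn
  set K := Nat.card {w : Matrix.ProjectiveSpecialLinearGroup (Fin 2) F // w * w = 1} with hK
  have hK1 := Cfsg.Agent.H611.InvCount.card_involutions hF2
  have hK2 := Cfsg.Agent.H611.InvCount.card_sq_neg_one (F := F)
  rw [← hqdef] at hK2
  rw [← hK] at hK1
  have hN : ∀ v : G, orderOf v = 2 → Nat.card {u : G // orderOf u = 2 ∧ Commute u v} ≤ 2 * K := by
    intro v hv
    obtain ⟨e'⟩ := hc v hv
    exact Cfsg.Agent.H611.InvCount.card_commuting v e'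
  refine Cfsg.Agent.H611.Involutions.exists_real t ht (fun u hu => hconj t u ht hu) (2 * K) hN ?_
  rw [← hn]
  have hsq2 : Fintype.card {a : F // a ^ 2 = -1} ≤ 2 := by
    rw [Fintype.card_subtype]
    by_cases hex : ∃ i : F, i ^ 2 = -1
    · obtain ⟨i, hi⟩ := hex
      have hsub : (Finset.univ.filter fun a : F => a ^ 2 = -1) ⊆ {i, -i} := by
        intro a ha
        have ha2 : a ^ 2 = -1 := (Finset.mem_filter.1 ha).2
        have h1 : (a - i) * (a + i) = 0 := by linear_combination ha2 - hi
        rw [Finset.mem_insert, Finset.mem_singleton]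
        rcases mul_eq_zero.1 h1 with h3 | h3
        · exact Or.inl (sub_eq_zero.1 h3)
        · exact Or.inr (eq_neg_of_add_eq_zero_left h3)
      exact (Finset.card_le_card hsub).trans Finset.card_le_two
    · have : (Finset.univ.filter fun a : F => a ^ 2 = -1) = ∅ := by
        rw [Finset.filter_eq_empty_iff]
        intro a _ ha
        exact hex ⟨a, ha⟩
      rw [this]
      simp
  rcases hC G hab F (by omega) t ht (hc t ht) with ⟨m, hm, hF, hcard⟩ | ⟨hF, hJ⟩
  · -- Ree type
    rw [← hqdef] at hF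
    have hq27 : 27 ≤ q := by
      rw [hF]
      calc 27 = 3 ^ 3 := by norm_num
        _ ≤ 3 ^ (2 * m + 1) := Nat.pow_le_pow_right (by norm_num) (by omega)
    have hq4 : q % 4 = 3 := by
      rw [hF]
      have : ∀ m : ℕ, 3 ^ (2 * m + 1) % 4 = 3 := by
        intro m
        induction m with
        | zero => norm_num
        | succ m ih =>
          rw [show 2 * (m + 1) + 1 = (2 * m + 1) + 2 by ring, pow_add, Nat.mul_mod, ih]
          norm_num
      exact this m
    have hsq : Fintype.card {a : F // a ^ 2 = -1} = 0 := by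
      rw [Fintype.card_eq_zero_iff]
      refine ⟨fun a => ?_⟩
      have : IsSquare (-1 : F) := ⟨a.1, by rw [← pow_two]; exact a.2.symm⟩
      rw [FiniteField.isSquare_neg_one_iff, ← hqdef] at this
      (clear * - hq4 this; omega)
    have hcard' : q * (q ^ 2 - 1) * n = q ^ 3 * (q ^ 3 + 1) * (q - 1) := by
      rw [hindex, hcard, hF]
    rw [hsq, zero_mul, add_zero] at hK2
    obtain ⟨r, hr⟩ : ∃ r, q = r + 1 := ⟨q - 1, by (clear * - hq4; omega)⟩
    have hb : 2 * K ≤ (r + 1) * r + 2 := by
      have h3 : q * (q - 1) = (r + 1) * r := by rw [hr]; simp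
      rw [h3] at hK2
      omega
    have hn' : n = (r + 1) ^ 2 * (r ^ 2 + r + 1) := by
      have e1 : q ^ 2 - 1 = r * (r + 2) := by
        rw [hr]
        have : (r + 1) ^ 2 = r * (r + 2) + 1 := by ring
        omega
      have e2 : q - 1 = r := by (clear * - hr; omega)
      rw [e1, e2, hr] at hcard'
      have hr0 : 0 < (r + 1) * (r * (r + 2)) := by
        have : 0 < r := by omega
        (clear * - this; positivity)
      apply Nat.eq_of_mul_eq_mul_left hr0
      rw [hcard']
      ring
    rw [hn']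
    calc 2 * K * (2 * K) ≤ ((r + 1) * r + 2) * ((r + 1) * r + 2) := Nat.mul_le_mul hb hb
      _ < (r + 1) ^ 2 * (r ^ 2 + r + 1) := by
        have : 26 ≤ r := by omega
        nlinarith only [hq27, hr]
  · -- Janko type
    rw [← hqdef] at hF
    have hq5 : q = 5 := by omega
    have hn' : n = 1463 := by
      rw [hJ.2, hq5] at hindex
      omega
    have hb : 2 * K ≤ 32 := by
      rw [hq5] at hK2
      omega
    rw [hn']
    calc 2 * K * (2 * K) ≤ 32 * 32 := Nat.mul_le_mul hb hb
      _ < 1463 := by norm_num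

end Cfsg.Agent.H611.JRReal
end

private theorem dce_ff3b8ab64d0b : _root_.True := by
  try have : _root_.True := by simp only [_root_.Matrix.ProjectiveSpecialLinearGroup.congr_simp]
  exact _root_.True.intro
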